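import Cfsg.Agent.H909.PwM.FrTwo
import Cfsg.Agent.LThreeCo1.Ranks

/-!
# The fixed points on `Λ/2Λ` of the 2-elements and of the elements of order 3 of `Co1` (helper692, P5 of 2.B, S2491/S2492)

`fr_le`: at most `2 ^ 19` fixed points.
-/

set_option autoImplicit false
set_option maxRecDepth 100000

namespace Cfsg.Agent.H692.QS

open Cfsg Cfsg.Agent.SporadicA Cfsg.Agent.SporadicStructure.Co0Matrix
open Cfsg.Agent.SporadicA.Co0Mono hiding smul_add smul_zero mk_smul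
open Cfsg.Agent.CoOneType.CoEval
open Cfsg.Agent.LThreeMB Cfsg.Agent.LThreeMB.Fix
open Cfsg.Agent.MonsterU.Lam2
open Cfsg.Agent.SporadicA.Co1Simple (allOne)
open Cfsg.Agent.CoOneType.MonoWord (cw)
open Cfsg.Agent.H909.PwM.FrTwo (DD DD_apply card_mul pow_le fr_A fr_B)
open Cfsg.Agent.CoOneType.SignFacts (wt)
open Cfsg.Spor (Co1)

/-! ### the dodecad class -/

/-- the mask of a dodecad -/
def m1 : ℕ := 28637

theorem m1_code : GolayBase.isCode m1 = true := by decide +kernel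

/-- a dodecad -/
def c1 : golayCode := cw m1 m1_code

/-- sign change on lists -/
def epsL (m : ℕ) (l : List ℤ) : List ℤ := (List.range 24).map fun i => if m.testBit i then -(l.getD i 0) else l.getD i 0

/-- `ε l - l` -/
def imL (l : List ℤ) : List ℤ := addL (epsL m1 l) (mulL (-1) l)

/-- lattice vectors and dual vectors -/
def uw : List (List ℤ × List ℤ) := [
  ([2, 2, 2, 0, 0, 0, 0, 0, 0, 0, 0, 0, 2, 0, 0, 0, 0, 2, 0, 2, 2, 0, 2, 0],
   [0, 0, 2, 0, 0, 0, 0, 0, 0, 2, 2, 0, 0, 2, 0, 0, 0, 2, 2, 2, 2, 0, 0, 0]),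
  ([2, 0, 0, 2, 0, 2, 0, 0, 0, 0, 0, 0, 0, 0, 0, 0, 2, 2, 2, 2, 2, 0, 0, 0],
   [0, 2, 0, 2, 0, 2, 0, 0, 0, 0, 0, 2, 0, 0, 0, 0, 0, 2, 0, 0, 2, 2, 2, 0]),
  ([2, 2, 0, 0, 2, 0, 0, 0, 0, 0, 0, 0, 2, 0, 0, 2, 2, 0, 2, 0, 2, 0, 0, 0],
   [0, 2, 0, 0, 2, 0, 0, 0, 0, 2, 0, 2, 0, 2, 0, 0, 0, 2, 0, 2, 0, 0, 2, 0]),
  ([2, 0, 0, 0, 0, 0, 2, 0, 0, 0, 0, 0, 2, 0, 0, 2, 2, 2, 0, 2, 0, 2, 0, 0],
   [0, 0, 0, 0, 0, 0, 2, 0, 0, 2, 0, 2, 0, 2, 0, 0, 0, 0, 2, 0, 2, 2, 2, 0]),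
  ([2, 2, 0, 0, 0, 2, 0, 2, 0, 0, 0, 0, 2, 0, 0, 0, 0, 2, 2, 0, 0, 2, 0, 0],
   [0, 0, 0, 0, 0, 2, 0, 2, 0, 2, 2, 0, 0, 2, 0, 0, 0, 2, 0, 0, 0, 2, 2, 0]),
  ([2, 0, 0, 0, 0, 2, 0, 0, 2, 0, 0, 0, 2, 0, 0, 2, 0, 0, 2, 2, 0, 0, 2, 0],
   [0, 2, 0, 0, 0, 0, 0, 0, 2, 0, 2, 2, 0, 2, 0, 0, 0, 2, 2, 0, 0, 2, 0, 0])]

/-- the images -/
def vw : List (List ℤ × List ℤ) := uw.map fun p => (imL p.1, p.2)

theorem lat_uw : latB uw = true := by decide +kernel
theorem lat_vw : latB vw = true := by decide +kernel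
theorem dual_vw : dualB vw = true := by decide +kernel

theorem wt_c1 : wt c1 = 12 := by decide +kernel

theorem vec_epsL (l : List ℤ) : vec (epsL m1 l) = signMap c1 (vec l) := by
  funext p
  rw [epsL, getD_range_map]
  show _ = sgn (GolayBase.word m1 p) * vec l p
  rw [Cfsg.Agent.CoOneType.Thirteen.sgn_word]
  split_ifs
  · rw [neg_one_mul]; rfl
  · rw [one_mul]; rfl

theorem mem_range {l : List ℤ} (hl : leechB l = true) (hl' : leechB (imL l) = true) :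
    cl (el (imL l)) ∈ (DD (QuotientGroup.mk (signCo0 c1) : Co1)).range := by
  refine ⟨cl (el l), ?_⟩
  rw [DD_apply, mk_smul, smul_cl, ← map_add, ← sub_eq_zero, ← map_sub]
  rw [cl_eq_zero]
  refine ⟨el l, Subtype.ext ?_⟩
  rw [AddSubgroup.coe_sub, AddSubgroup.coe_add, signCo0_smul, el_coe hl, el_coe hl', imL, vec_addL, vec_mulL, vec_epsL,
    two_nsmul, AddSubgroup.coe_add, el_coe hl, neg_one_zsmul]
  abel

theorem fr_C : fr (QuotientGroup.mk (signCo0 c1) : Co1) ≤ 2 ^ 18 := by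
  have h1 := card_mul (QuotientGroup.mk (signCo0 c1) : Co1)
  have h2 : 2 ^ vw.length ≤ Nat.card (DD (QuotientGroup.mk (signCo0 c1) : Co1)).range := by
    refine pow_le lat_vw dual_vw fun j => ?_
    have h3 : (vw.get j) ∈ vw := List.get_mem vw j
    obtain ⟨p, hp, hpe⟩ := List.mem_map.1 h3
    have h4 := (lat_spec lat_uw hp).1
    have h5 := (lat_spec lat_vw h3).1
    rw [vv, ← hpe]
    rw [← hpe] at h5
    exact mem_range h4 h5
  rw [show vw.length = 6 from rfl] at h2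
  by_contra hcon
  push Not at hcon
  have h6 : (2 ^ 18 + 1) * 2 ^ 6 ≤ fr (QuotientGroup.mk (signCo0 c1) : Co1) *
      Nat.card (DD (QuotientGroup.mk (signCo0 c1) : Co1)).range := Nat.mul_le_mul hcon h2
  rw [h1] at h6
  norm_num at h6

/-- the involutions -/
theorem fr_two {x : Co1} (hx : orderOf x = 2) : fr x ≤ 2 ^ 18 := by
  have hxx : x * x = 1 := by rw [← pow_two, ← hx, pow_orderOf_eq_one]
  have hx1 : x ≠ 1 := by
    rintro rfl
    rw [orderOf_one] at hx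
    norm_num at hx
  rcases Cfsg.Agent.KFacts.Co1D4.Base.cases x hxx hx1 with ⟨g, c, hc, h⟩ | ⟨g, c, hc, h⟩ | ⟨g, h⟩
  · have h1 : IsConj (QuotientGroup.mk (signCo0 Cfsg.Agent.CoOneType.GenCrit.c0) : Co1) x :=
      (Cfsg.Agent.CoOneType.ClosingFacts.isConj_octad Cfsg.Agent.H812.CoFiveData.wt_c0 hc).trans
        (isConj_iff.2 ⟨g, h⟩)
    obtain ⟨k, hk⟩ := isConj_iff.1 h1
    rw [← hk, fr_conj]
    exact fr_A.trans (by norm_num)
  · have h1 : IsConj (QuotientGroup.mk (signCo0 c1) : Co1) x :=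
      (Cfsg.Agent.CoOneType.ClosingFacts.isConj_dodecad wt_c1 hc).trans (isConj_iff.2 ⟨g, h⟩)
    obtain ⟨k, hk⟩ := isConj_iff.1 h1
    rw [← hk, fr_conj]
    exact fr_C
  · rw [← h, fr_conj]
    exact (fr_B Cfsg.Agent.CoOneType.Thirteen.b0_sq).trans (by norm_num)

theorem fr_pow (l : Co1) (n : ℕ) : fr l ≤ fr (l ^ n) := by
  have hfin : Finite L2 := Nat.finite_of_card_ne_zero (by rw [card_L2]; norm_num)
  have h : ∀ v : L2, l • v = v → l ^ n • v = v := by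
    intro v hv
    induction n with
    | zero => rw [pow_zero, one_smul]
    | succ n ih => rw [pow_succ, mul_smul, hv, ih]
  refine Nat.card_le_card_of_injective
    (fun v : {v : L2 // l • v = v} => (⟨(v : L2), h _ v.2⟩ : {v : L2 // l ^ n • v = v})) fun v w hvw => ?_
  exact Subtype.ext (congrArg (fun x : {v : L2 // l ^ n • v = v} => (x : L2)) hvw)

/-- **P5**: the fixed points of the 2-elements and of the elements of order 3 of `Co1` on `Λ/2Λ` -/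
theorem fr_le (l : Co1) (h1 : l ≠ 1) (h : (∃ k, orderOf l = 2 ^ k) ∨ orderOf l = 3) : fr l ≤ 2 ^ 19 := by
  rcases h with ⟨k, hk⟩ | h
  · have hk0 : k ≠ 0 := by
      rintro rfl
      rw [pow_zero, orderOf_eq_one_iff] at hk
      exact h1 hk
    obtain ⟨j, rfl⟩ := Nat.exists_eq_succ_of_ne_zero hk0
    have h2 : orderOf (l ^ 2 ^ j) = 2 := by
      rw [orderOf_pow' _ (by positivity), hk, Nat.succ_eq_add_one, pow_succ,
        Nat.gcd_eq_right (Dvd.intro _ rfl), Nat.mul_div_cancel_left _ (by positivity)]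
    exact (fr_pow l _).trans ((fr_two h2).trans (by norm_num))
  · rcases Cfsg.Agent.LThreeCo1.Ranks.ranks l h with h | h | h | h <;> rw [h] <;> norm_num

end Cfsg.Agent.H692.QS
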